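import Groth.Agent.CAlgOdd.LocalDimSpec
import Groth.Agent.CAlgOdd.CMCatenary
import Groth.Prelude.Def_CAlg
import Mathlib

/-!
# Local dimension of Cohen–Macaulay algebras of finite type over a field
-/

set_option autoImplicit false
set_option linter.style.haveILetI false

universe u

open Order

namespace Groth.Agent.CMEquidim

open Groth.Agent.CAlgOdd

section Order

/-- The interval between two primes, seen in a quotient. -/
theorem height_quotient_eq_krullDim_Icc {S : Type u} [CommRing S] (P m : PrimeSpectrum S) (h : P ≤ m) :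
    ∃ M : PrimeSpectrum (S ⧸ P.asIdeal), M.asIdeal.comap (Ideal.Quotient.mk P.asIdeal) = m.asIdeal ∧
      (height M : WithBot ℕ∞) = krullDim (Set.Icc P m) := by
  let e := Ideal.primeSpectrumQuotientOrderIsoZeroLocus P.asIdeal
  let M := e.symm ⟨m, h⟩
  have hM : e M = ⟨m, h⟩ := e.apply_symm_apply _
  refine ⟨M, congrArg (fun x => x.1.asIdeal) hM, ?_⟩
  rw [height_eq_krullDim_Iic]
  refine krullDim_eq_of_orderIso
    { toFun := fun x => ⟨(e x.1).1, (e x.1).2, by
        have : e x.1 ≤ e M := e.monotone x.2
        rwa [hM] at this⟩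
      invFun := fun y => ⟨e.symm ⟨y.1, y.2.1⟩, e.symm.monotone (a := ⟨y.1, y.2.1⟩) (b := ⟨m, h⟩) y.2.2⟩
      left_inv := fun x => Subtype.ext (e.symm_apply_apply _)
      right_inv := fun y => Subtype.ext (by simp)
      map_rel_iff' := fun {a b} => e.map_rel_iff }

/-- The interval between two primes, seen in a local ring. -/
theorem coheight_localization_eq_krullDim_Icc {S : Type u} [CommRing S] (P m : PrimeSpectrum S) (h : P ≤ m) :
    ∃ P' : PrimeSpectrum (Localization.AtPrime m.asIdeal),
      P'.asIdeal.comap (algebraMap S (Localization.AtPrime m.asIdeal)) = P.asIdeal ∧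
      (coheight P' : WithBot ℕ∞) = krullDim (Set.Icc P m) := by
  let e := IsLocalization.AtPrime.primeSpectrumOrderIso (Localization.AtPrime m.asIdeal) m.asIdeal
  let P' := e.symm ⟨P, h⟩
  have hP : e P' = ⟨P, h⟩ := e.apply_symm_apply _
  refine ⟨P', congrArg (fun x => x.1.asIdeal) hP, ?_⟩
  rw [coheight_eq_krullDim_Ici]
  refine krullDim_eq_of_orderIso
    { toFun := fun x => ⟨(e x.1).1, by
        have : e P' ≤ e x.1 := e.monotone x.2
        rwa [hP] at this, (e x.1).2⟩
      invFun := fun y => ⟨e.symm ⟨y.1, y.2.2⟩, e.symm.monotone (a := ⟨P, h⟩) (b := ⟨y.1, y.2.2⟩) y.2.1⟩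
      left_inv := fun x => Subtype.ext (e.symm_apply_apply _)
      right_inv := fun y => Subtype.ext (by simp)
      map_rel_iff' := fun {a b} => e.map_rel_iff }

theorem coheight_bot_quotient {S : Type u} [CommRing S] (P : PrimeSpectrum S) :
    ringKrullDim (S ⧸ P.asIdeal) = (coheight P : WithBot ℕ∞) := by
  rw [ringKrullDim, coheight_eq_krullDim_Ici]
  exact krullDim_eq_of_orderIso (Ideal.primeSpectrumQuotientOrderIsoZeroLocus P.asIdeal)

end Order

section Field

variable (k : Type u) [Field k] {S : Type u} [CommRing S] [Algebra k S] [Algebra.FiniteType k S]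
include k

/-- The local dimension at a prime is the dimension of any minimal prime below it,
when the local ring at a closed point above is Cohen–Macaulay. -/
theorem coheight_eq_height {P m : PrimeSpectrum S} (hP : P.asIdeal ∈ minimalPrimes S) (h : P ≤ m)
    (hm : m.asIdeal.IsMaximal) [hCM : LocCoh.IsCohenMacaulayLocalRing (Localization.AtPrime m.asIdeal)] :
    coheight P = m.asIdeal.height := by
  classical
  haveI : IsNoetherianRing S := Algebra.FiniteType.isNoetherianRing k S
  obtain ⟨M, hMm, hM⟩ := height_quotient_eq_krullDim_Icc P m h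
  obtain ⟨P', hP'P, hP'⟩ := coheight_localization_eq_krullDim_Icc P m h
  haveI : M.asIdeal.IsMaximal := by
    haveI := hm
    have : M.asIdeal = m.asIdeal.map (Ideal.Quotient.mk P.asIdeal) := by
      rw [← hMm, Ideal.map_comap_of_surjective _ Ideal.Quotient.mk_surjective]
    rw [this]
    exact (Ideal.map_eq_top_or_isMaximal_of_surjective _ Ideal.Quotient.mk_surjective hm).resolve_left
      fun hT => M.isPrime.ne_top (this.trans hT)
  have hMco : coheight M = 0 := coheight_eq_zero.2 (PrimeSpectrum.isMax_iff.2 inferInstance)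
  have h1 : (coheight P : WithBot ℕ∞) = krullDim (Set.Icc P m) := by
    rw [← hM, ← coheight_bot_quotient P]
    refine le_antisymm ?_ (height_le_krullDim M)
    obtain ⟨q, hqM, hq⟩ := LocalDimSpec.exists_coheight_eq k M
    rw [LocalDimSpec.localDim_eq_add k M, hMco, add_zero] at hq
    rw [hq, ringKrullDim, krullDim_eq_iSup_coheight]
    refine iSup_le fun x => ?_
    have hbot : (⊥ : PrimeSpectrum (S ⧸ P.asIdeal)) ≤ M := bot_le
    have h2 := LocalDimSpec.coheight_le_of_le k hbot
    rw [LocalDimSpec.localDim_eq_add k M, hMco, add_zero, hq] at h2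
    exact (WithBot.coe_le_coe.2 (coheight_anti bot_le)).trans h2
  have h2 : (coheight P' : WithBot ℕ∞) = m.asIdeal.height := by
    haveI : IsNoetherianRing (Localization.AtPrime m.asIdeal) :=
      IsLocalization.isNoetherianRing m.asIdeal.primeCompl _ inferInstance
    have h0 : P'.asIdeal.height = 0 := by
      rw [← IsLocalization.height_under m.asIdeal.primeCompl P'.asIdeal, Ideal.under_def, hP'P]
      exact Ideal.height_eq_zero_iff.2 hP
    have key := CMCatenary.height_add_coheight (Localization.AtPrime m.asIdeal) hCM.supportDim_eq_depth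
      (by rw [Module.support_of_algebra, Algebra.algebraMap_self,
            (RingHom.ker_eq_bot_iff_eq_zero (RingHom.id _)).2 fun _ h => h]
          exact PrimeSpectrum.zeroLocus_bot) P'
    rw [h0, IsLocalization.AtPrime.ringKrullDim_eq_height m.asIdeal] at key
    simpa using key
  exact WithBot.coe_injective (h1.trans (hP'.symm.trans h2))

variable [hS : LocCoh.IsCohenMacaulayRing S]

/-- The local dimension of a Cohen–Macaulay algebra is the height of any closed point of the closure. -/
theorem localDim_eq_height {q m : PrimeSpectrum S} (h : q ≤ m) (hm : m.asIdeal.IsMaximal) :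
    FlatMor.localDim (PrimeSpectrum S) q = (m.asIdeal.height : WithBot ℕ∞) := by
  haveI : LocCoh.IsCohenMacaulayLocalRing (Localization.AtPrime m.asIdeal) :=
    hS.isCohenMacaulayLocalRing_localization m.asIdeal
  obtain ⟨Q, hQq, hQ⟩ := LocalDimSpec.exists_coheight_eq k q
  obtain ⟨P, hP, hPQ⟩ := Ideal.exists_minimalPrimes_le (I := ⊥) (J := Q.asIdeal) bot_le
  haveI : P.IsPrime := hP.1.1
  have hPQ' : (⟨P, inferInstance⟩ : PrimeSpectrum S) ≤ Q := hPQ
  have e := coheight_eq_height k (P := ⟨P, inferInstance⟩) hP (hPQ'.trans (hQq.trans h)) hm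
  rw [← e]
  refine le_antisymm ?_ (LocalDimSpec.coheight_le_of_le k (hPQ'.trans hQq))
  rw [hQ]
  exact WithBot.coe_le_coe.2 (coheight_anti hPQ')

theorem localDim_eq_of_le {q q' : PrimeSpectrum S} (h : q ≤ q') :
    FlatMor.localDim (PrimeSpectrum S) q = FlatMor.localDim (PrimeSpectrum S) q' := by
  obtain ⟨m, hm, hle⟩ := Ideal.exists_le_maximal q'.asIdeal q'.isPrime.ne_top
  rw [localDim_eq_height k (m := ⟨m, hm.isPrime⟩) (h.trans hle) hm,
    localDim_eq_height k (m := ⟨m, hm.isPrime⟩) hle hm]

/-- The local dimension of a Cohen–Macaulay algebra is locally constant. -/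
theorem isLocallyConstant_localDim :
    IsLocallyConstant fun q : PrimeSpectrum S => FlatMor.localDim (PrimeSpectrum S) q := by
  refine IsLocallyConstant.iff_exists_open _ |>.2 fun p => ?_
  obtain ⟨g, hg, hmin⟩ := LocalDimSpec.exists_minimal_nhd k p
  refine ⟨PrimeSpectrum.basicOpen g, (PrimeSpectrum.basicOpen g).isOpen, hg, fun q hq => ?_⟩
  obtain ⟨P, hP, hPq⟩ := Ideal.exists_minimalPrimes_le (I := ⊥) (J := q.asIdeal) bot_le
  haveI : P.IsPrime := hP.1.1
  have hPp : P ≤ p.asIdeal := hmin q hq P hP hPq
  rw [← localDim_eq_of_le k (q := ⟨P, inferInstance⟩) (q' := q) hPq,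
    localDim_eq_of_le k (q := ⟨P, inferInstance⟩) (q' := p) hPp]

end Field

section Decomposition

/-- Heights are unchanged in a quotient whose zero locus is closed under generalization below the point. -/
theorem height_quotient_of_lower {S : Type u} [CommRing S] (I : Ideal S) (m : PrimeSpectrum (S ⧸ I))
    (hlow : ∀ x : PrimeSpectrum S, x.asIdeal ≤ m.asIdeal.comap (Ideal.Quotient.mk I) → I ≤ x.asIdeal) :
    m.asIdeal.height = (m.asIdeal.comap (Ideal.Quotient.mk I)).height := by
  let e := Ideal.primeSpectrumQuotientOrderIsoZeroLocus I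
  let M : PrimeSpectrum S := (e m).1
  show m.asIdeal.height = M.asIdeal.height
  rw [PrimeSpectrum.height_eq_orderHeight, PrimeSpectrum.height_eq_orderHeight]
  apply WithBot.coe_injective
  rw [height_eq_krullDim_Iic, height_eq_krullDim_Iic]
  refine krullDim_eq_of_orderIso
    { toFun := fun x => ⟨(e x.1).1, e.monotone x.2⟩
      invFun := fun y => ⟨e.symm ⟨y.1, hlow y.1 y.2⟩, by
        have := e.symm.monotone (a := ⟨y.1, hlow y.1 y.2⟩) (b := e m) y.2
        rwa [e.symm_apply_apply] at this⟩
      left_inv := fun x => Subtype.ext (e.symm_apply_apply _)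
      right_inv := fun y => Subtype.ext (by simp)
      map_rel_iff' := fun {a b} => e.map_rel_iff }

/-- A locally constant function on the spectrum splits the ring. -/
theorem exists_pi_of_isLocallyConstant {S : Type u} [CommRing S] {ι : Type} [Fintype ι]
    (f : PrimeSpectrum S → ι) (hf : IsLocallyConstant f) :
    ∃ a : ι → S, (∀ i, IsIdempotentElem (a i)) ∧ (∀ i q, a i ∈ q.asIdeal ↔ f q = i) ∧
      Function.Bijective (RingHom.pi fun i => Ideal.Quotient.mk (Ideal.span {a i})) := by
  classical
  choose a ha hz using fun i => PrimeSpectrum.isClopen_iff_zeroLocus.1 (hf.isClopen_fiber i)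
  have hmem : ∀ i q, a i ∈ q.asIdeal ↔ f q = i := fun i q => by
    have := Set.ext_iff.1 (hz i) q
    simpa [PrimeSpectrum.mem_zeroLocus] using this.symm
  refine ⟨a, ha, hmem, ?_, ?_⟩
  · rw [injective_iff_map_eq_zero]
    intro x hx
    have hxi : ∀ i, x * a i = x := fun i => by
      obtain ⟨c, rfl⟩ := Ideal.mem_span_singleton'.1 (Ideal.Quotient.eq_zero_iff_mem.1 (congrFun hx i))
      rw [mul_assoc, (ha i).eq]
    have hprod : ∀ s : Finset ι, x * ∏ i ∈ s, a i = x := fun s => by
      induction s using Finset.induction_on with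
      | empty => simp
      | insert i s hi ih => rw [Finset.prod_insert hi, ← mul_assoc, hxi, ih]
    have hidem : IsIdempotentElem (∏ i, a i) := by
      show _ * _ = _
      rw [← Finset.prod_mul_distrib]
      exact Finset.prod_congr rfl fun i _ => (ha i).eq
    have h0 : ∏ i, a i = 0 := by
      have hnil : IsNilpotent (∏ i, a i) := nilpotent_iff_mem_prime.2 fun J hJ =>
        Ideal.prod_mem J (Finset.mem_univ (f ⟨J, hJ⟩)) ((hmem _ ⟨J, hJ⟩).2 rfl)
      obtain ⟨n, hn⟩ := hnil
      cases n with
      | zero => rw [pow_zero] at hn; rw [← mul_one (∏ i, a i), hn, mul_zero]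
      | succ n => rwa [hidem.pow_succ_eq n] at hn
    rw [← hprod Finset.univ, h0, mul_zero]
  · intro y
    have hcop : Pairwise (Function.onFun IsCoprime fun i => Ideal.span {a i}) := fun i j hij => by
      show IsCoprime _ _
      rw [Ideal.isCoprime_iff_sup_eq]
      by_contra hne
      obtain ⟨m, hm, hle⟩ := Ideal.exists_le_maximal _ hne
      have hi := (hmem i ⟨m, hm.isPrime⟩).1 (hle (Ideal.mem_sup_left (Ideal.mem_span_singleton_self _)))
      have hj := (hmem j ⟨m, hm.isPrime⟩).1 (hle (Ideal.mem_sup_right (Ideal.mem_span_singleton_self _)))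
      exact hij (hi.symm.trans hj)
    obtain ⟨z, hz'⟩ := Ideal.quotientInfToPiQuotient_surj hcop y
    obtain ⟨x, rfl⟩ := Ideal.Quotient.mk_surjective z
    exact ⟨x, hz'⟩

end Decomposition

end Groth.Agent.CMEquidim
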