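import Groth.Agent.FlatModel.FibreNil
import Mathlib

/-!
# The fibrewise criterion of flatness at a point, with the fibre ring
-/

set_option autoImplicit false
set_option linter.style.haveILetI false

universe u

open TensorProduct

namespace Groth.Agent.CMEquidim

/-- Flatness descends along a ring map by fractions. -/
theorem flat_of_fractions {A K M : Type u} [CommRing A] [CommRing K] [Algebra A K] [AddCommGroup M] [Module A M]
    [Module K M] [IsScalarTower A K M] [Module.Flat A M]
    (h : ∀ c : K, ∃ a s : A, IsUnit (algebraMap A K s) ∧ c * algebraMap A K s = algebraMap A K a) :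
    Module.Flat K M := by
  have hb : IsBaseChange K (LinearMap.id : M →ₗ[A] M) := by
    refine IsBaseChange.of_lift_unique _ fun Q _ _ _ _ g => ?_
    have hlin : ∀ (c : K) (m : M), g (c • m) = c • g m := fun c m => by
      obtain ⟨a, s, hs, e⟩ := h c
      refine hs.smul_left_cancel.1 ?_
      rw [algebraMap_smul, ← map_smul, ← algebraMap_smul K s (c • m), smul_smul, mul_comm, e, algebraMap_smul,
        map_smul, ← algebraMap_smul K a (g m), ← e, mul_comm, mul_smul, algebraMap_smul]
    exact ⟨{ toFun := g, map_add' := g.map_add, map_smul' := hlin }, LinearMap.ext fun _ => rfl,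
      fun y hy => LinearMap.ext fun x => LinearMap.congr_fun hy x⟩
  exact Module.Flat.isBaseChange A K M M hb

attribute [local instance] Algebra.TensorProduct.rightAlgebra in
theorem algEquivAux₂_tmul {R B : Type u} [CommRing R] [CommRing B] [Algebra R B] (p : Ideal R) [p.IsPrime]
    (Q : Ideal (p.Fiber B)) [Q.IsPrime] (b : B) :
    Ideal.Fiber.algEquivAux₂ p Q (algebraMap (p.Fiber B) (Localization.AtPrime Q) (1 ⊗ₜ b)) =
      Ideal.Quotient.mk _ (algebraMap B _ b) := by
  unfold Ideal.Fiber.algEquivAux₂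
  simp only [AlgEquiv.trans_apply, AlgEquiv.restrictScalars_apply]
  rw [show (1 : p.ResidueField) ⊗ₜ[R] b = algebraMap B (p.Fiber B) b from rfl,
    ← IsScalarTower.algebraMap_apply B (p.Fiber B) (Localization.AtPrime Q), AlgEquiv.commutes,
    IsScalarTower.algebraMap_apply B (B ⧸ p.map (algebraMap R B))]
  erw [AlgEquiv.commutes]
  rfl

/-- If the fibre is flat at a point and the source is flat over the base, then the map is flat at the point. -/
theorem flat_stalk_of_fibre {R P B : Type u} [CommRing R] [CommRing P] [CommRing B] [Algebra R P] [Algebra P B]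
    [Algebra R B] [IsScalarTower R P B] [Algebra.FiniteType R P] [Algebra.FinitePresentation R B] [Module.Flat R B]
    (p : Ideal R) [p.IsPrime] (Q : Ideal (p.Fiber B)) [Q.IsPrime]
    (h : RingHom.Flat (R := p.Fiber P) (S := Localization.AtPrime Q)
      ((algebraMap (p.Fiber B) (Localization.AtPrime Q)).comp
        (Algebra.TensorProduct.map (AlgHom.id R p.ResidueField) (IsScalarTower.toAlgHom R P B)).toRingHom)) :
    Module.Flat P (Localization.AtPrime (Q.comap Algebra.TensorProduct.includeRight)) := by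
  classical
  let q : Ideal B := Q.comap Algebra.TensorProduct.includeRight
  let 𝔭 : Ideal P := q.comap (algebraMap P B)
  have hqp : p = 𝔭.comap (algebraMap R P) := by
    refine Eq.trans (Ideal.over_def Q p) ?_
    ext a
    simp only [𝔭, q, Ideal.mem_comap, ← IsScalarTower.algebraMap_apply, AlgHom.commutes]
  let Rp := Localization.AtPrime p
  let Pq := Localization.AtPrime 𝔭
  let Bq := Localization.AtPrime q
  let χ₁ := Localization.localRingHom p 𝔭 (algebraMap R P) hqp
  let χ₂ := Localization.localRingHom 𝔭 q (algebraMap P B) rfl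
  letI : Algebra Rp Pq := χ₁.toAlgebra
  letI : Algebra Pq Bq := χ₂.toAlgebra
  letI : Algebra Rp Bq := (χ₂.comp χ₁).toAlgebra
  have hc₁ : ∀ r, χ₁ (algebraMap R _ r) = algebraMap P _ (algebraMap R P r) :=
    Localization.localRingHom_to_map p 𝔭 (algebraMap R P) hqp
  have hc₂ : ∀ r, χ₂ (algebraMap P _ r) = algebraMap B _ (algebraMap P B r) :=
    Localization.localRingHom_to_map 𝔭 q (algebraMap P B) rfl
  haveI : IsScalarTower Rp Pq Bq := IsScalarTower.of_algebraMap_eq' rfl
  haveI : IsScalarTower R Rp Pq := IsScalarTower.of_algebraMap_eq fun r => by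
    rw [IsScalarTower.algebraMap_apply R P Pq]
    exact (hc₁ r).symm
  haveI : IsScalarTower P Pq Bq := IsScalarTower.of_algebraMap_eq fun r => by
    rw [IsScalarTower.algebraMap_apply P B Bq]
    exact (hc₂ r).symm
  haveI : IsScalarTower R Rp Bq := IsScalarTower.of_algebraMap_eq fun r => by
    show _ = χ₂ (χ₁ (algebraMap R Rp r))
    rw [hc₁, hc₂, ← IsScalarTower.algebraMap_apply R P B, ← IsScalarTower.algebraMap_apply R B Bq]
  haveI : IsLocalHom (algebraMap Rp Pq) := Localization.isLocalHom_localRingHom p 𝔭 (algebraMap R P) hqp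
  haveI : IsLocalHom (algebraMap Pq Bq) := Localization.isLocalHom_localRingHom 𝔭 q (algebraMap P B) rfl
  haveI : Module.Flat R Bq := Module.Flat.trans R B Bq
  haveI : Module.Flat Rp Bq := (Module.flat_iff_of_isLocalization Rp p.primeCompl Bq).2 inferInstance
  let I := (IsLocalRing.maximalIdeal Rp).map (algebraMap Rp Pq)
  let J := (p.map (algebraMap R B)).map (algebraMap B Bq)
  have hIJ : (I • (⊤ : Submodule Pq Bq)).toAddSubgroup = J.toAddSubgroup := by
    have h1 : I • (⊤ : Submodule Pq Bq) = (I.map (algebraMap Pq Bq)).restrictScalars Pq := Ideal.smul_top_eq_map I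
    rw [h1]
    have h2 : I.map (algebraMap Pq Bq) = J := by
      simp only [I, J]
      rw [Ideal.map_map, ← IsScalarTower.algebraMap_eq, ← Localization.AtPrime.map_eq_maximalIdeal, Ideal.map_map,
        Ideal.map_map, ← IsScalarTower.algebraMap_eq, ← IsScalarTower.algebraMap_eq]
    rw [h2]
    rfl
  let f : (Bq ⧸ J) ≃+ (Bq ⧸ (I • (⊤ : Submodule Pq Bq))) := QuotientAddGroup.quotientAddEquivOfEq hIJ.symm
  -- the fibre acts on both sides
  let K := Pq ⧸ I
  let ρ : p.ResidueField →ₐ[R] K :=
    { toRingHom := Ideal.quotientMap I χ₁ Ideal.le_comap_map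
      commutes' := fun r => by
        show Ideal.Quotient.mk I (χ₁ (algebraMap R Rp r)) = Ideal.Quotient.mk I (algebraMap R Pq r)
        exact congrArg _ (IsScalarTower.algebraMap_apply R Rp Pq r).symm }
  let τ : p.Fiber P →ₐ[R] K :=
    Algebra.TensorProduct.lift ρ (IsScalarTower.toAlgHom R P K) fun _ _ => .all _ _
  letI : Algebra (p.Fiber P) K := τ.toRingHom.toAlgebra
  letI : Module (p.Fiber P) (Bq ⧸ (I • (⊤ : Submodule Pq Bq))) := Module.compHom _ τ.toRingHom
  haveI : IsScalarTower (p.Fiber P) K (Bq ⧸ (I • (⊤ : Submodule Pq Bq))) :=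
    IsScalarTower.of_algebraMap_smul fun _ _ => rfl
  let ψ := (algebraMap (p.Fiber B) (Localization.AtPrime Q)).comp
      (Algebra.TensorProduct.map (AlgHom.id R p.ResidueField) (IsScalarTower.toAlgHom R P B)).toRingHom
  letI : Module (p.Fiber P) (Localization.AtPrime Q) := Module.compHom _ ψ
  haveI : Module.Flat (p.Fiber P) (Localization.AtPrime Q) := h
  let θ : K →+* Bq ⧸ J := Ideal.Quotient.lift I ((Ideal.Quotient.mk J).comp χ₂) fun a ha => by
    show Ideal.Quotient.mk J (χ₂ a) = 0
    rw [Ideal.Quotient.eq_zero_iff_mem]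
    have : χ₂ a ∈ I • (⊤ : Submodule Pq Bq) := by
      rw [show χ₂ a = a • (1 : Bq) by rw [Algebra.smul_def, mul_one]; rfl]
      exact Submodule.smul_mem_smul ha trivial
    exact hIJ.le this
  have hθ : ∀ (c : K) (z : Bq ⧸ J), f (θ c * z) = c • f z := fun c z => by
    obtain ⟨a, rfl⟩ := Ideal.Quotient.mk_surjective c
    obtain ⟨b, rfl⟩ := Ideal.Quotient.mk_surjective z
    show Submodule.Quotient.mk (χ₂ a * b) = (Submodule.Quotient.mk (a • b) : Bq ⧸ (I • (⊤ : Submodule Pq Bq)))
    rw [Algebra.smul_def]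
    rfl
  let e := Ideal.Fiber.algEquivAux₂ p Q
  have hkey : ∀ x : p.Fiber P, e (ψ x) = θ (τ x) := by
    let g₁ : p.Fiber P →ₐ[R] Bq ⧸ J := (e : Localization.AtPrime Q →ₐ[R] Bq ⧸ J).comp
      ((IsScalarTower.toAlgHom R (p.Fiber B) (Localization.AtPrime Q)).comp
        (Algebra.TensorProduct.map (AlgHom.id R p.ResidueField) (IsScalarTower.toAlgHom R P B)))
    let θ' : K →ₐ[R] Bq ⧸ J :=
      { toRingHom := θ
        commutes' := fun r => by
          show Ideal.Quotient.mk J (χ₂ (algebraMap R Pq r)) = _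
          rw [IsScalarTower.algebraMap_apply R P Pq, hc₂, ← IsScalarTower.algebraMap_apply R P B,
            ← IsScalarTower.algebraMap_apply R B Bq]
          rfl }
    have : g₁ = θ'.comp τ := by
      refine Algebra.TensorProduct.ext (Ideal.ResidueField.algHom_ext (by ext)) (AlgHom.ext fun y => ?_)
      show e (algebraMap _ _ (((AlgHom.id R p.ResidueField) (1 : p.ResidueField)) ⊗ₜ[R] algebraMap P B y)) =
        θ (τ ((1 : p.ResidueField) ⊗ₜ[R] y))
      rw [Algebra.TensorProduct.lift_tmul, show ρ 1 = 1 from map_one ρ, one_mul]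
      refine (algEquivAux₂_tmul p Q (algebraMap P B y)).trans ?_
      exact congrArg (Ideal.Quotient.mk J) (hc₂ y).symm
    exact fun x => AlgHom.congr_fun this x
  let L : Localization.AtPrime Q ≃ₗ[p.Fiber P] (Bq ⧸ (I • (⊤ : Submodule Pq Bq))) :=
    { e.toRingEquiv.toAddEquiv.trans f with
      map_smul' := fun x z => by
        show f (e (ψ x * z)) = τ x • f (e z)
        rw [map_mul, hkey, hθ] }
  haveI : Module.Flat (p.Fiber P) (Bq ⧸ (I • (⊤ : Submodule Pq Bq))) := Module.Flat.of_linearEquiv L.symm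
  have hfib : Module.Flat K (Bq ⧸ (I • (⊤ : Submodule Pq Bq))) := by
    refine flat_of_fractions (A := p.Fiber P) fun c => ?_
    obtain ⟨c, rfl⟩ := Ideal.Quotient.mk_surjective c
    obtain ⟨⟨a, s⟩, hs⟩ := IsLocalization.surj 𝔭.primeCompl c
    have ht : ∀ y : P, algebraMap (p.Fiber P) K (1 ⊗ₜ y) = Ideal.Quotient.mk I (algebraMap P Pq y) := fun y => by
      show τ (1 ⊗ₜ y) = _
      rw [Algebra.TensorProduct.lift_tmul, map_one, one_mul]
      rfl
    refine ⟨1 ⊗ₜ a, 1 ⊗ₜ (s : P), ?_, ?_⟩
    · rw [ht]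
      exact (IsLocalization.map_units Pq s).map _
    · rw [ht, ht, ← map_mul, hs]
  haveI : Algebra.EssFiniteType P Pq := Algebra.EssFiniteType.of_isLocalization Pq 𝔭.primeCompl
  haveI : Algebra.EssFiniteType R Pq := Algebra.EssFiniteType.comp R P Pq
  haveI : Algebra.EssFiniteType Rp Pq := Algebra.EssFiniteType.of_comp R Rp Pq
  obtain ⟨-, hfl⟩ := FlatModel.flat_of_fibre_essFP (R := Rp) (S := Pq) (S' := Bq) (M := Bq)
    (FlatModel.isEssFinitePresentation_localization (R := R) q p Rp Bq) hfib
  exact Module.Flat.trans P Pq Bq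

end Groth.Agent.CMEquidim
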