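import Groth.Agent.CMEquidim.Basic
import Groth.Agent.CMEquidim.FibreFlat
import Groth.Agent.SmoothDimLib.Criterion
import Groth.Agent.LC.LiaisonLocal
import Groth.Agent.FlatModel.Open
import Groth.Agent.FibDim.RingLoc
import Groth.Agent.S9159
import Groth.Agent.S9175

/-!
# The relative dimension of a flat family with Cohen–Macaulay fibres is locally constant
-/

set_option autoImplicit false
set_option linter.style.haveILetI false

universe u

open TensorProduct

namespace Groth.Agent.CMEquidim

section Fibre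

variable {R S : Type u} [CommRing R] [CommRing S] [Algebra R S]

/-- Localizing the total ring changes neither the local rings nor the local dimensions of a fibre. -/
theorem fibre_away (p : Ideal R) [p.IsPrime] (g : S) (Q : PrimeSpectrum (p.Fiber (Localization.Away g))) :
    ∃ Q' : PrimeSpectrum (p.Fiber S),
      Q'.asIdeal.comap Algebra.TensorProduct.includeRight =
          (Q.asIdeal.comap Algebra.TensorProduct.includeRight).comap (algebraMap S (Localization.Away g)) ∧
        FlatMor.localDim (PrimeSpectrum (p.Fiber (Localization.Away g))) Q =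
          FlatMor.localDim (PrimeSpectrum (p.Fiber S)) Q' ∧
        (LocCoh.IsCohenMacaulayLocalRing (Localization.AtPrime Q'.asIdeal) →
          LocCoh.IsCohenMacaulayLocalRing (Localization.AtPrime Q.asIdeal)) := by
  let B := Localization.Away g
  let ψ := Algebra.TensorProduct.map (AlgHom.id p.ResidueField p.ResidueField) (IsScalarTower.toAlgHom R S B)
  letI : Algebra (p.Fiber S) (p.Fiber B) := ψ.toRingHom.toAlgebra
  haveI : IsScalarTower p.ResidueField (p.Fiber S) (p.Fiber B) :=
    IsScalarTower.of_algebraMap_eq' ψ.comp_algebraMap.symm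
  have hloc := IsLocalization.tensorProduct_tensorProduct_right R p.ResidueField (Submonoid.powers g) B
    (RingHom.ext fun x => by simp [RingHom.algebraMap_toAlgebra, ψ])
  rw [Submonoid.map_powers] at hloc
  haveI : IsLocalization.Away ((1 : p.ResidueField) ⊗ₜ[R] g : p.Fiber S) (p.Fiber B) := hloc
  let Q' := PrimeSpectrum.comap (algebraMap (p.Fiber S) (p.Fiber B)) Q
  refine ⟨Q', ?_, ?_, fun hCM => ?_⟩
  · ext x
    simp only [Q', PrimeSpectrum.comap_asIdeal, Ideal.mem_comap]
    rfl
  · exact SmoothDimLib.localDim_openEmbedding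
      (PrimeSpectrum.localization_away_isOpenEmbedding (p.Fiber B) ((1 : p.ResidueField) ⊗ₜ[R] g : p.Fiber S)) Q
  · haveI := hCM
    let T := Localization.AtPrime Q.asIdeal
    haveI : IsScalarTower (p.Fiber S) (p.Fiber B) T := inferInstance
    haveI : IsLocalization.AtPrime T Q'.asIdeal :=
      IsLocalization.isLocalization_isLocalization_atPrime_isLocalization
        (Submonoid.powers ((1 : p.ResidueField) ⊗ₜ[R] g : p.Fiber S)) T Q.asIdeal
    let e := (IsLocalization.algEquiv Q'.asIdeal.primeCompl (Localization.AtPrime Q'.asIdeal) T).toRingEquiv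
    haveI : IsNoetherianRing (Localization.AtPrime Q'.asIdeal) := hCM.1
    haveI : IsNoetherianRing T := isNoetherianRing_of_ringEquiv (Localization.AtPrime Q'.asIdeal) e
    exact LC.Liaison.isCMLocal_of_ringEquiv (A := Localization.AtPrime Q'.asIdeal) (B := T) e

/-- Primes of the fibre are determined by their contraction. -/
theorem fiber_prime_ext (p : Ideal R) [p.IsPrime] (Q Q' : PrimeSpectrum (p.Fiber S))
    (h : Q.asIdeal.comap Algebra.TensorProduct.includeRight = Q'.asIdeal.comap Algebra.TensorProduct.includeRight) :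
    Q = Q' :=
  (PrimeSpectrum.primesOverOrderIsoFiber R S p).symm.injective (Subtype.ext h)

/-- Comparison of a fibre with affine space over the residue field. -/
theorem fibre_poly {d : ℕ} {B : Type u} [CommRing B] [Algebra R B] [Algebra (MvPolynomial (Fin d) R) B]
    [IsScalarTower R (MvPolynomial (Fin d) R) B] [Algebra.FinitePresentation R B]
    [Algebra.QuasiFinite (MvPolynomial (Fin d) R) B]
    (p : Ideal R) [p.IsPrime] (QB : PrimeSpectrum (p.Fiber B))
    (hQ : LocCoh.IsCohenMacaulayLocalRing (Localization.AtPrime QB.asIdeal)) :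
    (Module.Flat (MvPolynomial (Fin d) R) B →
      FlatMor.localDim (PrimeSpectrum (p.Fiber B)) QB = (d : WithBot ℕ∞)) ∧
    (FlatMor.localDim (PrimeSpectrum (p.Fiber B)) QB = (d : WithBot ℕ∞) → Module.Flat R B →
      Module.Flat (MvPolynomial (Fin d) R)
        (Localization.AtPrime (QB.asIdeal.comap Algebra.TensorProduct.includeRight))) := by
  classical
  let P := MvPolynomial (Fin d) R
  let κ := p.ResidueField
  let e : p.Fiber P ≃ₐ[κ] MvPolynomial (Fin d) κ := MvPolynomial.algebraTensorAlgEquiv R κ
  let ψ : p.Fiber P →ₐ[κ] p.Fiber B := Algebra.TensorProduct.map (AlgHom.id κ κ) (IsScalarTower.toAlgHom R P B)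
  let χ : MvPolynomial (Fin d) κ →ₐ[κ] p.Fiber B := ψ.comp e.symm.toAlgHom
  letI : Algebra (MvPolynomial (Fin d) κ) (p.Fiber B) := χ.toRingHom.toAlgebra
  haveI : IsScalarTower κ (MvPolynomial (Fin d) κ) (p.Fiber B) := IsScalarTower.of_algebraMap_eq' χ.comp_algebraMap.symm
  letI : Algebra (p.Fiber P) (p.Fiber B) := ψ.toRingHom.toAlgebra
  haveI : IsScalarTower κ (p.Fiber P) (p.Fiber B) := IsScalarTower.of_algebraMap_eq' ψ.comp_algebraMap.symm
  letI : Algebra P (p.Fiber B) :=
    ((Algebra.TensorProduct.includeRight : B →ₐ[R] p.Fiber B).toRingHom.comp (algebraMap P B)).toAlgebra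
  letI : Algebra P (p.Fiber P) := Algebra.TensorProduct.rightAlgebra
  letI : Algebra B (p.Fiber B) := Algebra.TensorProduct.rightAlgebra
  haveI : IsScalarTower P B (p.Fiber B) := IsScalarTower.of_algebraMap_eq' rfl
  haveI : IsScalarTower R (p.Fiber P) (p.Fiber B) :=
    IsScalarTower.of_algebraMap_eq' (ψ.restrictScalars R).comp_algebraMap.symm
  haveI : IsScalarTower P (p.Fiber P) (p.Fiber B) := IsScalarTower.of_algebraMap_eq fun y => by
    simp [RingHom.algebraMap_toAlgebra, ψ]
  haveI : IsScalarTower R P (p.Fiber B) := IsScalarTower.of_algebraMap_eq fun r => by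
    show _ = (Algebra.TensorProduct.includeRight : B →ₐ[R] p.Fiber B) (algebraMap P B (algebraMap R P r))
    rw [← IsScalarTower.algebraMap_apply, AlgHom.commutes]
  haveI : Algebra.QuasiFinite P (p.Fiber B) := by
    refine Algebra.QuasiFinite.of_forall_exists_mul_mem_range (IsScalarTower.toAlgHom P B (p.Fiber B)) fun x => ?_
    obtain ⟨r, hr, s, hs⟩ := Ideal.Fiber.exists_smul_eq_one_tmul p x
    refine ⟨algebraMap R B r, ?_, s, ?_⟩
    · show IsUnit ((Algebra.TensorProduct.includeRight : B →ₐ[R] p.Fiber B) (algebraMap R B r))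
      rw [AlgHom.commutes, IsScalarTower.algebraMap_apply R κ (p.Fiber B)]
      exact (isUnit_iff_ne_zero.2 fun h => hr (Ideal.algebraMap_residueField_eq_zero.1 h)).map _
    · show (1 : κ) ⊗ₜ[R] s = x * (Algebra.TensorProduct.includeRight : B →ₐ[R] p.Fiber B) (algebraMap R B r)
      rw [AlgHom.commutes, mul_comm, ← Algebra.smul_def, hs]
  haveI : Algebra.QuasiFinite (p.Fiber P) (p.Fiber B) :=
    Algebra.QuasiFinite.of_restrictScalars (R := P) (S := p.Fiber P) (T := p.Fiber B)
  haveI : Algebra.QuasiFinite (MvPolynomial (Fin d) κ) (p.Fiber B) :=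
    RingHom.QuasiFinite.comp (f := ψ.toRingHom) (g := e.symm.toRingEquiv.toRingHom)
      (RingHom.quasiFinite_algebraMap.2 (by infer_instance : Algebra.QuasiFinite (p.Fiber P) (p.Fiber B)))
      (RingHom.QuasiFinite.of_finite (RingHom.Finite.of_surjective _ e.symm.surjective))
  have hS := S9159.result κ (p.Fiber B) d QB.asIdeal
  refine ⟨fun hflat => ?_, fun hdim _ => ?_⟩
  · refine (hS.1 ?_).2
    haveI : Algebra.IsPushout P (p.Fiber P) B (p.Fiber B) := by
      rw [Algebra.IsPushout.comm, ← Algebra.IsPushout.comp_iff R _ κ]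
      infer_instance
    haveI h1 : Module.Flat (p.Fiber P) (p.Fiber B) :=
      Module.Flat.isBaseChange P (p.Fiber P) B (p.Fiber B)
        (Algebra.IsPushout.out (R := P) (S := p.Fiber P) (R' := B) (S' := p.Fiber B))
    have h2 : RingHom.Flat (R := MvPolynomial (Fin d) κ) (S := p.Fiber B) χ.toRingHom :=
      RingHom.Flat.comp (f := e.symm.toRingEquiv.toRingHom) (g := ψ.toRingHom)
        (RingHom.Flat.of_bijective e.symm.bijective) h1
    haveI : Module.Flat (MvPolynomial (Fin d) κ) (p.Fiber B) := h2
    exact Module.Flat.trans (MvPolynomial (Fin d) κ) (p.Fiber B) (Localization.AtPrime QB.asIdeal)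
  · refine flat_stalk_of_fibre p QB.asIdeal ?_
    have hm : Module.Flat (MvPolynomial (Fin d) κ) (Localization.AtPrime QB.asIdeal) := hS.2 ⟨hQ, hdim⟩
    have hf : RingHom.Flat (R := MvPolynomial (Fin d) κ) (S := Localization.AtPrime QB.asIdeal)
        (algebraMap (MvPolynomial (Fin d) κ) (Localization.AtPrime QB.asIdeal)) :=
      RingHom.flat_algebraMap_iff.2 hm
    have he : RingHom.Flat (R := p.Fiber P) (S := MvPolynomial (Fin d) κ) e.toRingEquiv.toRingHom :=
      RingHom.Flat.of_bijective e.bijective
    convert he.comp hf using 1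
    refine RingHom.ext fun x => ?_
    show algebraMap (p.Fiber B) _ (ψ x) = algebraMap (p.Fiber B) _ (ψ (e.symm (e x)))
    rw [e.symm_apply_apply]

variable [Algebra.FinitePresentation R S] [Module.Flat R S]
  (hCM : ∀ p : PrimeSpectrum R, LocCoh.IsCohenMacaulayRing (p.asIdeal.Fiber S))

include hCM in
omit [Module.Flat R S] in
theorem exists_fibreDim (q : PrimeSpectrum S) :
    ∃ n : ℕ, FlatMor.fibreDimAt (AlgebraicGeometry.Spec.map (CommRingCat.ofHom (algebraMap R S))) q = (n : WithBot ℕ∞) := by
  obtain ⟨Q, hQ⟩ := FibDim.exists_fiber_point (A := R) q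
  rw [← FibDim.localDim_fiber_eq_fibreDimAt q Q hQ]
  haveI := hCM ⟨q.asIdeal.under R, inferInstance⟩
  obtain ⟨m, hm, hle⟩ := Ideal.exists_le_maximal Q.asIdeal Q.isPrime.ne_top
  haveI := hm.isPrime
  haveI : IsNoetherianRing ((q.asIdeal.under R).Fiber S) :=
    Algebra.FiniteType.isNoetherianRing (q.asIdeal.under R).ResidueField _
  rw [localDim_eq_height (q.asIdeal.under R).ResidueField (m := ⟨m, hm.isPrime⟩) hle hm]
  obtain ⟨n, hn⟩ := ENat.ne_top_iff_exists.1 (Ideal.height_ne_top_of_isPrime (I := m))
  exact ⟨n, by rw [← hn]; rfl⟩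

omit [Algebra.FinitePresentation R S] [Module.Flat R S] in
theorem localDim_fiber_eq (p : Ideal R) [p.IsPrime] (q : PrimeSpectrum S) (Q : PrimeSpectrum (p.Fiber S))
    (hQ : Q.asIdeal.comap Algebra.TensorProduct.includeRight = q.asIdeal) :
    FlatMor.localDim (PrimeSpectrum (p.Fiber S)) Q =
      FlatMor.fibreDimAt (AlgebraicGeometry.Spec.map (CommRingCat.ofHom (algebraMap R S))) q := by
  have hp : p = q.asIdeal.under R := by
    rw [← hQ]
    exact ((Ideal.over_def Q.asIdeal p).trans (by
      ext a
      simp only [Ideal.under, Ideal.mem_comap, AlgHom.commutes]))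
  subst hp
  exact FibDim.localDim_fiber_eq_fibreDimAt q Q hQ

include hCM in
/-- The relative dimension is locally constant. -/
theorem isLocallyConstant_fibreDimAt :
    IsLocallyConstant fun q : PrimeSpectrum S =>
      FlatMor.fibreDimAt (AlgebraicGeometry.Spec.map (CommRingCat.ofHom (algebraMap R S))) q := by
  classical
  refine IsLocallyConstant.iff_exists_open _ |>.2 fun q => ?_
  obtain ⟨d, hd⟩ := exists_fibreDim hCM q
  obtain ⟨Q, hQ⟩ := FibDim.exists_fiber_point (A := R) q
  have hQd := (localDim_fiber_eq _ q Q hQ).trans hd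
  obtain ⟨g, hg, φ, -, hφ⟩ := S9175.result R S (q.asIdeal.under R) q.asIdeal Q hQ d hQd
  let P := MvPolynomial (Fin d) R
  let B := Localization.Away g
  letI : Algebra P B := φ.toRingHom.toAlgebra
  haveI : IsScalarTower R P B := IsScalarTower.of_algebraMap_eq' φ.comp_algebraMap.symm
  haveI : Algebra.QuasiFinite P B := hφ
  haveI : Algebra.FinitePresentation S B := IsLocalization.Away.finitePresentation g
  haveI : Algebra.FinitePresentation R B := Algebra.FinitePresentation.trans R S B
  haveI : Module.Flat S B := IsLocalization.flat B (Submonoid.powers g)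
  haveI : Module.Flat R B := Module.Flat.trans R S B
  -- flatness at the given point
  obtain ⟨qB, hqB⟩ : ∃ qB : PrimeSpectrum B, PrimeSpectrum.comap (algebraMap S B) qB = q := by
    have : q ∈ Set.range (PrimeSpectrum.comap (algebraMap S B)) := by
      rw [PrimeSpectrum.localization_away_comap_range B g]; exact hg
    exact this
  obtain ⟨QB, hQB⟩ := FibDim.exists_fiber_point (A := R) qB
  have hQB' : QB.asIdeal.comap (Algebra.TensorProduct.includeRight : B →ₐ[R] _) = qB.asIdeal := hQB
  obtain ⟨Q', hQ', hQ'dim, hQ'CM⟩ := fibre_away (qB.asIdeal.under R) g QB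
  haveI := (hCM ⟨qB.asIdeal.under R, inferInstance⟩).isCohenMacaulayLocalRing_localization Q'.asIdeal
  have hq' : Q'.asIdeal.comap Algebra.TensorProduct.includeRight = q.asIdeal := by
    rw [hQ', hQB']
    exact congrArg PrimeSpectrum.asIdeal hqB
  have hflat : Module.Flat P (Localization.AtPrime qB.asIdeal) := by
    have hh : ∀ (J : Ideal B) [J.IsPrime], QB.asIdeal.comap (Algebra.TensorProduct.includeRight : B →ₐ[R] _) = J →
        Module.Flat P (Localization.AtPrime (QB.asIdeal.comap (Algebra.TensorProduct.includeRight : B →ₐ[R] _))) →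
        Module.Flat P (Localization.AtPrime J) := by
      rintro J _ rfl h; exact h
    refine hh _ hQB' ?_
    exact (fibre_poly _ QB (hQ'CM inferInstance)).2 (hQ'dim.trans ((localDim_fiber_eq _ q Q' hq').trans hd)) inferInstance
  have hPfp : Algebra.FinitePresentation P B :=
    Algebra.FinitePresentation.of_restrict_scalars_finitePresentation R P B
  obtain ⟨g', hg', hW⟩ := FlatModel.exists_flat_nhd (R := P) (S := B) B qB.asIdeal
    (Module.Flat.of_linearEquiv ((IsLocalizedModule.iso qB.asIdeal.primeCompl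
      (Algebra.linearMap B (Localization.AtPrime qB.asIdeal))).restrictScalars P))
  -- the neighbourhood on which the family is flat over affine space
  let B₂ := Localization.Away g'
  haveI : Algebra.FinitePresentation B B₂ := IsLocalization.Away.finitePresentation g'
  haveI : Algebra.FinitePresentation R B₂ := Algebra.FinitePresentation.trans R B B₂
  haveI : Module.Flat P B₂ := by
    haveI := hW (Submonoid.powers g') (Submonoid.mem_powers g')
    exact Module.Flat.of_linearEquiv ((IsLocalizedModule.iso (Submonoid.powers g')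
      (Algebra.linearMap B B₂)).restrictScalars P).symm
  have hemb := PrimeSpectrum.localization_away_isOpenEmbedding B g
  have hemb₂ := PrimeSpectrum.localization_away_isOpenEmbedding B₂ g'
  refine ⟨Set.range (PrimeSpectrum.comap (algebraMap S B) ∘ PrimeSpectrum.comap (algebraMap B B₂)),
    (hemb.comp hemb₂).isOpen_range, ?_, ?_⟩
  · obtain ⟨z, hz⟩ : qB ∈ Set.range (PrimeSpectrum.comap (algebraMap B B₂)) := by
      rw [PrimeSpectrum.localization_away_comap_range B₂ g']; exact hg'
    exact ⟨z, by rw [Function.comp_apply, hz, hqB]⟩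
  rintro _ ⟨z, rfl⟩
  rw [hd]
  obtain ⟨QZ, hQZ⟩ := FibDim.exists_fiber_point (A := R) z
  have hQZ' : QZ.asIdeal.comap (Algebra.TensorProduct.includeRight : B₂ →ₐ[R] _) = z.asIdeal := hQZ
  obtain ⟨Q₁, hQ₁, hQ₁dim, hQ₁CM⟩ := fibre_away (z.asIdeal.under R) g' QZ
  obtain ⟨Q₂, hQ₂, hQ₂dim, hQ₂CM⟩ := fibre_away (z.asIdeal.under R) g Q₁
  haveI := (hCM ⟨z.asIdeal.under R, inferInstance⟩).isCohenMacaulayLocalRing_localization Q₂.asIdeal
  rw [← localDim_fiber_eq _ _ Q₂ (by rw [hQ₂, hQ₁, hQZ']; rfl), ← hQ₂dim, ← hQ₁dim]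
  exact (fibre_poly _ QZ (hQ₁CM (hQ₂CM inferInstance))).1 inferInstance

end Fibre

end Groth.Agent.CMEquidim
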