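import Groth.Agent.CMEquidim.Relative
import Groth.Agent.Lib.CISeq

/-!
# Regular sequences in Cohen–Macaulay equidimensional algebras over a field
-/

set_option autoImplicit false
set_option linter.style.haveILetI false

universe u

open Order TensorProduct

namespace Groth.Agent.CMEquidim

/-- The height of a prime of a quotient is the dimension of the quotient of the local ring. -/
theorem height_quotient_eq_ringKrullDim {Z : Type u} [CommRing Z] (J : Ideal Z) (q : PrimeSpectrum (Z ⧸ J))
    (Q : PrimeSpectrum Z) (hQ : q.asIdeal.comap (Ideal.Quotient.mk J) = Q.asIdeal) :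
    ((q.asIdeal.height : ℕ∞) : WithBot ℕ∞) =
      ringKrullDim (Localization.AtPrime Q.asIdeal ⧸ J.map (algebraMap Z (Localization.AtPrime Q.asIdeal))) := by
  let A := Localization.AtPrime Q.asIdeal
  let e := Ideal.primeSpectrumQuotientOrderIsoZeroLocus J
  let l := IsLocalization.AtPrime.primeSpectrumOrderIso A Q.asIdeal
  have hq : (e q).1 = Q := PrimeSpectrum.ext hQ
  rw [PrimeSpectrum.height_eq_orderHeight, height_eq_krullDim_Iic, ringKrullDim,
    krullDim_eq_of_orderIso (Ideal.primeSpectrumQuotientOrderIsoZeroLocus (J.map (algebraMap Z A)))]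
  have hJ : ∀ x : PrimeSpectrum A, J.map (algebraMap Z A) ≤ x.asIdeal ↔ J ≤ (l x).1.asIdeal := fun x =>
    Ideal.map_le_iff_le_comap
  refine krullDim_eq_of_orderIso
    { toFun := fun x => ⟨l.symm ⟨(e x.1).1, hq ▸ e.monotone x.2⟩, by
        show (J.map (algebraMap Z A) : Set A) ⊆ _
        refine (hJ _).2 ?_
        rw [l.apply_symm_apply]
        exact (e x.1).2⟩
      invFun := fun y => ⟨e.symm ⟨(l y.1).1, (hJ y.1).1 y.2⟩, by
        have h := e.symm.monotone (a := ⟨(l y.1).1, (hJ y.1).1 y.2⟩) (b := e q)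
          (show (l y.1).1 ≤ (e q).1 from hq ▸ (l y.1).2)
        rwa [e.symm_apply_apply] at h⟩
      left_inv := fun x => Subtype.ext (by simp)
      right_inv := fun y => Subtype.ext (by simp)
      map_rel_iff' := fun {a b} => ?_ }
  exact l.symm.le_iff_le.trans (e.le_iff_le (x := a.1) (y := b.1))

variable (k : Type u) [Field k] {Z : Type u} [CommRing Z] [Algebra k Z] [Algebra.FiniteType k Z]
  [LocCoh.IsCohenMacaulayRing Z] {d : ℕ}
include k

/-- Regular sequences are detected by the local dimension of the quotient. -/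
theorem isRegular_iff_localDim_le (heq : ∀ P ∈ minimalPrimes Z, ringKrullDim (Z ⧸ P) = (d : WithBot ℕ∞))
    (f : List Z) (q : PrimeSpectrum (Z ⧸ Ideal.ofList f)) (Q : PrimeSpectrum Z)
    (hQ : q.asIdeal.comap (Ideal.Quotient.mk (Ideal.ofList f)) = Q.asIdeal) :
    RingTheory.Sequence.IsRegular (Localization.AtPrime Q.asIdeal)
        (f.map (algebraMap Z (Localization.AtPrime Q.asIdeal))) ↔
      f.length ≤ d ∧
        FlatMor.localDim (PrimeSpectrum (Z ⧸ Ideal.ofList f)) q ≤ ((d - f.length : ℕ) : WithBot ℕ∞) := by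
  classical
  haveI : IsNoetherianRing Z := Algebra.FiniteType.isNoetherianRing k Z
  let J := Ideal.ofList f
  let A := Localization.AtPrime Q.asIdeal
  haveI : LocCoh.IsCohenMacaulayLocalRing A :=
    LocCoh.IsCohenMacaulayRing.isCohenMacaulayLocalRing_localization (R := Z) Q.asIdeal
  have hJQ : J ≤ Q.asIdeal := fun a ha => by
    rw [← hQ, Ideal.mem_comap, Ideal.Quotient.eq_zero_iff_mem.2 ha]
    exact zero_mem _
  -- `ht Q + dim Z/Q = d`
  have hsum : ((Q.asIdeal.height + coheight Q : ℕ∞) : WithBot ℕ∞) = (d : WithBot ℕ∞) := by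
    rw [PrimeSpectrum.height_eq_orderHeight, ← CAlgOdd.LocalDimSpec.localDim_eq_add k Q]
    obtain ⟨m, hm, hle⟩ := Ideal.exists_le_maximal Q.asIdeal Q.isPrime.ne_top
    haveI := hm.isPrime
    obtain ⟨P, hP, hPm⟩ := Ideal.exists_minimalPrimes_le (I := ⊥) (J := m) bot_le
    haveI : P.IsPrime := hP.1.1
    haveI := LocCoh.IsCohenMacaulayRing.isCohenMacaulayLocalRing_localization (R := Z) m
    rw [localDim_eq_height k (m := ⟨m, hm.isPrime⟩) hle hm,
      ← coheight_eq_height k (P := ⟨P, inferInstance⟩) (m := ⟨m, hm.isPrime⟩) hP hPm hm]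
    exact (coheight_bot_quotient (⟨P, inferInstance⟩ : PrimeSpectrum Z)).symm.trans (heq P hP)
  have hco : coheight q = coheight Q := by
    apply WithBot.coe_injective
    rw [coheight_eq_krullDim_Ici, coheight_eq_krullDim_Ici]
    let e := Ideal.primeSpectrumQuotientOrderIsoZeroLocus J
    have hq : (e q).1 = Q := PrimeSpectrum.ext hQ
    exact krullDim_eq_of_orderIso
      { toFun := fun x => ⟨(e x.1).1, hq ▸ e.monotone x.2⟩
        invFun := fun y => ⟨e.symm ⟨y.1, hJQ.trans y.2⟩, by
          have h := e.symm.monotone (a := e q) (b := ⟨y.1, hJQ.trans y.2⟩)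
            (show (e q).1 ≤ y.1 from hq.le.trans y.2)
          rwa [e.symm_apply_apply] at h⟩
        left_inv := fun x => Subtype.ext (by simp)
        right_inv := fun y => Subtype.ext (by simp)
        map_rel_iff' := fun {a b} => e.le_iff_le (x := a.1) (y := b.1) }
  have hlocal : FlatMor.localDim (PrimeSpectrum (Z ⧸ J)) q =
      ((q.asIdeal.height + coheight Q : ℕ∞) : WithBot ℕ∞) := by
    rw [CAlgOdd.LocalDimSpec.localDim_eq_add k q, hco, PrimeSpectrum.height_eq_orderHeight]
  obtain ⟨h, hh⟩ := ENat.ne_top_iff_exists.1 (Ideal.height_ne_top_of_isPrime (I := Q.asIdeal))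
  haveI : IsNoetherianRing (Z ⧸ J) := inferInstance
  obtain ⟨h', hh'⟩ := ENat.ne_top_iff_exists.1 (Ideal.height_ne_top_of_isPrime (I := q.asIdeal))
  obtain ⟨c, hc⟩ : ∃ c : ℕ, (c : ℕ∞) = coheight Q := by
    refine ENat.ne_top_iff_exists.1 fun hT => ?_
    rw [hT, add_top] at hsum
    exact (ENat.coe_ne_top d) (WithBot.coe_injective hsum).symm
  rw [← hh, ← hc] at hsum
  rw [← hh', ← hc] at hlocal
  have hsum' : h + c = d := by exact_mod_cast hsum
  have hA : ringKrullDim A = (h : WithBot ℕ∞) := by
    rw [IsLocalization.AtPrime.ringKrullDim_eq_height Q.asIdeal A, ← hh]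
    rfl
  have hquot : ringKrullDim (A ⧸ Ideal.ofList (f.map (algebraMap Z A))) = (h' : WithBot ℕ∞) := by
    rw [← Ideal.map_ofList, ← height_quotient_eq_ringKrullDim J q Q hQ, ← hh']
    rfl
  have hmemA : ∀ a ∈ f.map (algebraMap Z A), a ∈ IsLocalRing.maximalIdeal A := fun a ha => by
    obtain ⟨b, hb, rfl⟩ := List.mem_map.1 ha
    exact (IsLocalization.AtPrime.to_map_mem_maximal_iff A Q.asIdeal b).2 (hJQ (Ideal.subset_span hb))
  constructor
  · intro hreg
    have key := ringKrullDim_add_length_eq_ringKrullDim_of_isRegular _ hreg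
    rw [hquot, hA, List.length_map] at key
    have key' : h' + f.length = h := by exact_mod_cast key
    refine ⟨by omega, ?_⟩
    rw [hlocal]
    exact WithBot.coe_le_coe.2 (by exact_mod_cast (show h' + c ≤ d - f.length by omega))
  · rintro ⟨hr, hle⟩
    rw [hlocal] at hle
    have hle'' : ((h' : ℕ∞) + c) ≤ ((d - f.length : ℕ) : ℕ∞) := WithBot.coe_le_coe.1 hle
    have hle' : h' + c ≤ d - f.length := by exact_mod_cast hle''
    have hlow : h ≤ h' + f.length := by
      have h1 := Ideal.height_le_ringKrullDim_quotient_add_encard (p := IsLocalRing.maximalIdeal A)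
        {a | a ∈ f.map (algebraMap Z A)} hmemA
      rw [IsLocalRing.maximalIdeal_height_eq_ringKrullDim, hA] at h1
      have h2 : ({a | a ∈ f.map (algebraMap Z A)} : Set A).encard ≤ f.length := by
        rw [show {a | a ∈ f.map (algebraMap Z A)} = ((f.map (algebraMap Z A)).toFinset : Set A) by ext; simp,
          Set.encard_coe_eq_coe_finsetCard]
        exact_mod_cast (List.toFinset_card_le _).trans (by simp)
      have h3 : (h : WithBot ℕ∞) ≤ (h' : WithBot ℕ∞) + (f.length : WithBot ℕ∞) := by
        refine h1.trans (add_le_add ?_ (by exact_mod_cast h2))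
        exact le_of_eq hquot
      exact_mod_cast h3
    let x : Fin f.length → A := fun i => algebraMap Z A f[i]
    have hx : List.ofFn x = f.map (algebraMap Z A) := by
      refine List.ext_getElem (by simp) fun i h1 h2 => ?_
      simp [x]
    have hspan : Ideal.span (Set.range x) = Ideal.ofList (f.map (algebraMap Z A)) := by
      rw [← hx, Ideal.ofList]
      simp [List.mem_ofFn, Set.range]
    have hreg := CISeq.isWeaklyRegular_of_dim h f.length hA x
      (fun i => hmemA _ (by rw [← hx]; exact List.mem_ofFn.2 ⟨i, rfl⟩)) (by omega)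
      (by rw [hspan, hquot]; exact_mod_cast (show h' = h - f.length by omega))
    rw [hx] at hreg
    exact (IsLocalRing.isRegular_iff_isWeaklyRegular_of_subset_maximalIdeal hmemA).2 hreg

end Groth.Agent.CMEquidim
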