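import Groth.Agent.CMEquidim.Slice
import Groth.Agent.FlatLoc6.FiberRing
import Groth.Prelude.Def_EGA4b

/-!
# Regular sequences in the fibres of a family with Cohen–Macaulay equidimensional fibres
-/

set_option autoImplicit false
set_option linter.style.haveILetI false

universe u

open TensorProduct

namespace Groth.Agent.CMEquidim

variable (R : Type u) {S : Type u} [CommRing R] [CommRing S] [Algebra R S] [Algebra.FiniteType R S] {d : ℕ}

/-- The local ring of the fibre, compatibly with the elements of the total ring. -/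
theorem exists_fibLocEquiv_tmul (p : Ideal R) [p.IsPrime] (Q : Ideal (p.Fiber S)) [Q.IsPrime]
    (q : Ideal S) [q.IsPrime] (hq : Q.comap Algebra.TensorProduct.includeRight = q) :
    ∃ e : Localization.AtPrime Q ≃+* EGA4.FibLocRing R S q, ∀ s : S,
      e (algebraMap (p.Fiber S) (Localization.AtPrime Q) (1 ⊗ₜ s)) = algebraMap S (EGA4.FibLocRing R S q) s := by
  subst hq
  let r := Q.comap (Algebra.TensorProduct.includeRight : S →ₐ[R] p.Fiber S)
  have hI : (p.map (algebraMap R S)).map (algebraMap S (Localization.AtPrime r)) =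
      (r.comap (algebraMap R S)).map (algebraMap R (Localization.AtPrime r)) := by
    rw [Ideal.map_map, ← IsScalarTower.algebraMap_eq, FlatLoc6.comap_fiber_prime p Q]
  refine ⟨(Ideal.Fiber.algEquivAux₂ p Q).toRingEquiv.trans (Ideal.quotEquivOfEq hI), fun s => ?_⟩
  show Ideal.quotEquivOfEq hI (Ideal.Fiber.algEquivAux₂ p Q _) = _
  rw [algEquivAux₂_tmul, Ideal.quotEquivOfEq_mk]
  rfl

/-- A sequence is regular in the local ring of the fibre iff the quotient has small dimension in the fibre. -/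
theorem isRegular_fibLoc_iff (hCM : ∀ p : PrimeSpectrum R, LocCoh.IsCohenMacaulayRing (p.asIdeal.Fiber S))
    (heq : ∀ p : PrimeSpectrum R, ∀ P ∈ minimalPrimes (p.asIdeal.Fiber S),
      ringKrullDim (p.asIdeal.Fiber S ⧸ P) = (d : WithBot ℕ∞))
    (f : List S) (qT : PrimeSpectrum (S ⧸ Ideal.ofList f)) (q : PrimeSpectrum S)
    (hq : qT.asIdeal.comap (Ideal.Quotient.mk (Ideal.ofList f)) = q.asIdeal) :
    RingTheory.Sequence.IsRegular (EGA4.FibLocRing R S q.asIdeal)
        (f.map (algebraMap S (EGA4.FibLocRing R S q.asIdeal))) ↔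
      f.length ≤ d ∧ FlatMor.fibreDimAt (AlgebraicGeometry.Spec.map
        (CommRingCat.ofHom (algebraMap R (S ⧸ Ideal.ofList f)))) qT ≤ ((d - f.length : ℕ) : WithBot ℕ∞) := by
  classical
  let J := Ideal.ofList f
  let p : Ideal R := q.asIdeal.comap (algebraMap R S)
  haveI hCMp : LocCoh.IsCohenMacaulayRing (p.Fiber S) := hCM ⟨p, inferInstance⟩
  have hp : qT.asIdeal.comap (algebraMap R (S ⧸ J)) = p := by
    show _ = q.asIdeal.comap (algebraMap R S)
    rw [← hq, Ideal.comap_comap]
    rfl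
  obtain ⟨QT, hQT⟩ := FlatLoc6.exists_fiber_prime p qT.asIdeal hp
  let π : p.Fiber S →ₐ[R] p.Fiber (S ⧸ J) :=
    Algebra.TensorProduct.map (AlgHom.id R p.ResidueField) (Ideal.Quotient.mkₐ R J)
  let f' : List (p.Fiber S) := f.map (Algebra.TensorProduct.includeRight : S →ₐ[R] p.Fiber S)
  have hπ : Function.Surjective π :=
    Algebra.TensorProduct.map_surjective _ _ Function.surjective_id (Ideal.Quotient.mkₐ_surjective R J)
  have hker : RingHom.ker π.toRingHom = Ideal.ofList f' := by
    refine (Algebra.TensorProduct.lTensor_ker (Ideal.Quotient.mkₐ R J)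
      (Ideal.Quotient.mkₐ_surjective R J)).trans ?_
    erw [Ideal.Quotient.mkₐ_ker R J, Ideal.map_ofList]; rfl
  let θ : (p.Fiber S ⧸ Ideal.ofList f') ≃+* p.Fiber (S ⧸ J) :=
    (Ideal.quotEquivOfEq hker.symm).trans (RingHom.quotientKerEquivOfSurjective hπ)
  let z : PrimeSpectrum (p.Fiber S ⧸ Ideal.ofList f') := PrimeSpectrum.comap θ.toRingHom QT
  let Q : PrimeSpectrum (p.Fiber S) := PrimeSpectrum.comap (Ideal.Quotient.mk (Ideal.ofList f')) z
  have hQ : Q.asIdeal.comap Algebra.TensorProduct.includeRight = q.asIdeal := by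
    refine Eq.trans ?_ hq
    ext s
    rw [Ideal.mem_comap, Ideal.mem_comap, ← hQT]
    show θ (Ideal.Quotient.mk _ ((1 : p.ResidueField) ⊗ₜ[R] s)) ∈ QT.asIdeal ↔ _
    have h1 : θ (Ideal.Quotient.mk _ ((1 : p.ResidueField) ⊗ₜ[R] s)) = π ((1 : p.ResidueField) ⊗ₜ[R] s) := rfl
    rw [h1]
    simp [π, J]
  have key := isRegular_iff_localDim_le p.ResidueField (heq ⟨p, inferInstance⟩) f' z Q rfl
  obtain ⟨e, he⟩ := exists_fibLocEquiv_tmul R p Q.asIdeal q.asIdeal hQ
  have h2 : RingTheory.Sequence.IsRegular (EGA4.FibLocRing R S q.asIdeal)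
        (f.map (algebraMap S (EGA4.FibLocRing R S q.asIdeal))) ↔
      RingTheory.Sequence.IsRegular (Localization.AtPrime Q.asIdeal)
        (f'.map (algebraMap (p.Fiber S) (Localization.AtPrime Q.asIdeal))) := by
    refine (AddEquiv.isRegular_congr (e := e.toAddEquiv) ?_).symm
    rw [List.map_map, List.forall₂_map_left_iff, List.forall₂_map_right_iff]
    refine List.forall₂_same.mpr fun s _ x => ?_
    show e (algebraMap (p.Fiber S) _ ((1 : p.ResidueField) ⊗ₜ[R] s) * x) = algebraMap S _ s * e x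
    rw [map_mul, he]
  have h3 : FlatMor.localDim (PrimeSpectrum (p.Fiber S ⧸ Ideal.ofList f')) z =
      FlatMor.fibreDimAt (AlgebraicGeometry.Spec.map (CommRingCat.ofHom (algebraMap R (S ⧸ J)))) qT := by
    rw [← localDim_fiber_eq p qT QT hQT]
    exact (SmoothDimLib.localDim_openEmbedding
      (PrimeSpectrum.homeomorphOfRingEquiv (R := p.Fiber (S ⧸ J)) (S := p.Fiber S ⧸ Ideal.ofList f') θ.symm).isOpenEmbedding QT).symm
  rw [h2, key, h3, show f'.length = f.length from List.length_map _]

end Groth.Agent.CMEquidim
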